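import Groth.Agent.RelPC13.Bertini.Main
import Groth.Agent.VarDim.Basic
import Mathlib

/-! Choice of coefficients making `x`, `Σ gᵢ xᵢ`, `Σ cᵢ gᵢ` algebraically independent. -/

set_option autoImplicit false
set_option linter.style.haveILetI false

open IntermediateField

namespace Groth.Agent.RelPC13.Bertini

universe u

/-- Two elements cutting out a component of codimension two are algebraically independent. -/
theorem algebraicIndependent_pair {k A : Type u} [Field k] [CommRing A] [IsDomain A] [Algebra k A]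
    [Algebra.FiniteType k A] (g : Fin 2 → A) (p : Ideal A)
    (hp : p ∈ (Ideal.span {g 0, g 1}).minimalPrimes) (hdim : ringKrullDim (A ⧸ p) + 2 = ringKrullDim A) :
    AlgebraicIndependent k g := by
  rw [algebraicIndependent_iff_injective_aeval]
  by_contra hinj
  let φ : MvPolynomial (Fin 2) k →ₐ[k] A := MvPolynomial.aeval g
  have hker : RingHom.ker φ ≠ ⊥ := fun h => hinj ((RingHom.injective_iff_ker_eq_bot φ).2 h)
  obtain ⟨f, hf, hf0⟩ := Submodule.exists_mem_ne_zero_of_ne_bot hker
  let R := MvPolynomial (Fin 2) k ⧸ RingHom.ker φ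
  letI : Algebra R A := (RingHom.kerLift φ.toRingHom).toAlgebra
  have hR : ringKrullDim R ≤ 1 := by
    have h1 : ringKrullDim R ≤ ringKrullDim (MvPolynomial (Fin 2) k ⧸ Ideal.span {f}) :=
      ringKrullDim_le_of_surjective (Ideal.Quotient.factor ((Ideal.span_singleton_le_iff_mem _).2 hf))
        (Ideal.Quotient.factor_surjective _)
    have h2 := ringKrullDim_quotient_succ_le_of_nonZeroDivisor (mem_nonZeroDivisors_of_ne_zero hf0)
    rw [MvPolynomial.ringKrullDim_of_isNoetherianRing, ringKrullDim_eq_zero_of_field, zero_add, Nat.card_fin] at h2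
    refine h1.trans ?_
    have h3 : ((2 : ℕ) : WithBot ℕ∞) = 1 + 1 := by norm_num
    rw [h3] at h2
    generalize ringKrullDim (MvPolynomial (Fin 2) k ⧸ Ideal.span {f}) = d at h2 ⊢
    cases d with
    | bot => exact bot_le
    | coe d =>
      rw [← WithBot.coe_one, ← WithBot.coe_add, ← WithBot.coe_add, WithBot.coe_le_coe,
        ENat.add_le_add_iff_right ENat.one_ne_top] at h2
      exact_mod_cast h2
  haveI : p.IsPrime := hp.1.1
  haveI : IsNoetherianRing A := Algebra.FiniteType.isNoetherianRing k A
  haveI : IsNoetherianRing R := inferInstance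
  let P₀ : Ideal R := p.under R
  have hspan : Ideal.span {g 0, g 1} ≤ P₀.map (algebraMap R A) := by
    have hmem : ∀ i, g i ∈ p → g i ∈ P₀.map (algebraMap R A) := fun i hi => by
      have h : algebraMap R A (Ideal.Quotient.mk _ (MvPolynomial.X i)) = g i := MvPolynomial.aeval_X g i
      rw [← h]
      exact Ideal.mem_map_of_mem _ (show algebraMap R A _ ∈ p from h.symm ▸ hi)
    rw [Ideal.span_le, Set.insert_subset_iff, Set.singleton_subset_iff]
    exact ⟨hmem 0 (hp.1.2 (Ideal.subset_span (by simp))), hmem 1 (hp.1.2 (Ideal.subset_span (by simp)))⟩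
  have hmin : p ∈ (P₀.map (algebraMap R A)).minimalPrimes :=
    ⟨⟨hp.1.1, Ideal.map_comap_le⟩, fun q hq hqp => hp.2 ⟨hq.1, hspan.trans hq.2⟩ hqp⟩
  have h0 : (p.map (Ideal.Quotient.mk (P₀.map (algebraMap R A)))).height = 0 := by
    haveI : (p.map (Ideal.Quotient.mk (P₀.map (algebraMap R A)))).IsPrime :=
      Ideal.map_isPrime_of_surjective Ideal.Quotient.mk_surjective (by rw [Ideal.mk_ker]; exact hmin.1.2)
    rw [Ideal.height_eq_zero_iff]
    refine ⟨⟨inferInstance, bot_le⟩, fun q hq hqp => ?_⟩
    haveI : q.IsPrime := hq.1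
    have h1 : q.comap (Ideal.Quotient.mk (P₀.map (algebraMap R A))) ≤ p := by
      refine (Ideal.comap_mono hqp).trans ?_
      rw [Ideal.comap_map_of_surjective _ Ideal.Quotient.mk_surjective, ← RingHom.ker_eq_comap_bot, Ideal.mk_ker]
      exact sup_le le_rfl hmin.1.2
    have h2 := hmin.2 ⟨Ideal.comap_isPrime _ q, fun x hx => by
      show Ideal.Quotient.mk _ x ∈ q
      rw [Ideal.Quotient.eq_zero_iff_mem.2 hx]; exact q.zero_mem⟩ h1
    exact (Ideal.map_mono h2).trans (Ideal.map_comap_le)
  have hP₀ : (P₀.height : WithBot ℕ∞) ≤ 1 :=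
    (Ideal.height_le_ringKrullDim_of_ne_top (Ideal.IsPrime.ne_top inferInstance)).trans hR
  have hle := Ideal.height_le_height_add_of_liesOver P₀ p
  rw [h0, add_zero] at hle
  obtain ⟨n, hn, -⟩ := VarDim.exists_dim_eq_trdeg k A
  have hsum := VarDim.height_add_coheight_eq k n A hn ⟨p, inferInstance⟩
  rw [← VarDim.coheight_eq_ringKrullDim_quotient ⟨p, inferInstance⟩, hn] at hdim
  rw [← PrimeSpectrum.height_eq_orderHeight] at hsum
  generalize Order.coheight (⟨p, inferInstance⟩ : PrimeSpectrum A) = b at hsum hdim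
  have hp1 : p.height ≤ 1 := hle.trans (by exact_mod_cast hP₀)
  change p.height + b = n at hsum
  obtain ⟨a, ha⟩ := ENat.ne_top_iff_exists.1 (ne_top_of_le_ne_top ENat.one_ne_top hp1)
  rw [← ha] at hsum hp1
  obtain ⟨b', rfl⟩ : ∃ b' : ℕ, b = b' := by
    cases b with
    | top => simp at hsum
    | coe b => exact ⟨b, rfl⟩
  norm_cast at hsum hp1
  have hdim' : b' + 2 = n := by
    have h : (((b' + 2 : ℕ) : ℕ∞) : WithBot ℕ∞) = n := by push_cast; exact hdim
    exact_mod_cast h
  omega

/-- `Σ gᵢ xᵢ` is transcendental over `k(x)` as soon as some `gⱼ` is: translate `xⱼ` by one. -/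
theorem transcendental_linear {k K Ω : Type u} [Field k] [Field K] [Field Ω] [Algebra k K] [Algebra K Ω]
    [Algebra k Ω] [IsScalarTower k K Ω] {n : ℕ} (x : Fin n → Ω) (hx : AlgebraicIndependent K x)
    (g : Fin n → K) (j : Fin n) (hj : Transcendental (adjoin k (Set.range x)) (algebraMap K Ω (g j))) :
    Transcendental (adjoin k (Set.range x)) (∑ i, algebraMap K Ω (g i) * x i) := by
  classical
  intro hξ
  set ξ := ∑ i, algebraMap K Ω (g i) * x i with hξdef
  have hinjk : Function.Injective (algebraMap k K) := (algebraMap k K).injective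
  have hxk : AlgebraicIndependent k x := hx.restrictScalars hinjk
  let y : Fin n → Ω := fun i => x i + algebraMap K Ω (if i = j then 1 else 0)
  have hy : AlgebraicIndependent K y := by
    have h := hx.polynomial_aeval_of_transcendental
      (f := fun i => Polynomial.X + Polynomial.C (if i = j then 1 else 0 : K)) fun i => by
        exact Polynomial.transcendental _ (by rw [Polynomial.natDegree_X_add_C]; exact one_ne_zero)
          (by rw [Polynomial.leadingCoeff_X_add_C]; exact one_mem _)
    simpa [y] using h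
  have hyk : AlgebraicIndependent k y := hy.restrictScalars hinjk
  have hrange : adjoin k (Set.range y) ≤ adjoin k (Set.range x) := by
    rw [adjoin_le_iff]
    rintro _ ⟨i, rfl⟩
    refine add_mem (subset_adjoin k _ ⟨i, rfl⟩) ?_
    split <;> simp
  have h1 : ¬ AlgebraicIndependent k (fun o : Option (Fin n) => o.elim ξ x) := fun h =>
    (hxk.option_iff_transcendental ξ).1 h ((isAlgebraic_kadjoin_iff k _ _).2 hξ)
  have h2 : ¬ AlgebraicIndependent k (fun o : Option (Fin n) => o.elim (ξ + algebraMap K Ω (g j)) y) := by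
    intro h
    refine h1 (algebraicIndependent_iff.2 fun P hP => algebraicIndependent_iff.1 h P ?_)
    let F : Option (Fin n) → MvPolynomial (Fin n) K := fun o =>
      o.elim (∑ i, MvPolynomial.C (g i) * MvPolynomial.X i) MvPolynomial.X
    have hF : ∀ (z : Fin n → Ω), MvPolynomial.aeval z (MvPolynomial.aeval F P) =
        MvPolynomial.aeval (fun o : Option (Fin n) => o.elim (∑ i, algebraMap K Ω (g i) * z i) z) P := by
      intro z
      rw [← AlgHom.restrictScalars_apply k (MvPolynomial.aeval (R := K) z), MvPolynomial.comp_aeval_apply]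
      congr 1
      apply MvPolynomial.algHom_ext
      rintro (_ | i) <;> simp [F]
    have h0 : MvPolynomial.aeval F P = 0 :=
      algebraicIndependent_iff.1 hx _ ((hF x).trans hP)
    have h3 := hF y
    rw [h0, map_zero] at h3
    rw [h3]
    congr 2
    funext o
    cases o with
    | none =>
      simp only [Option.elim_none, y, mul_add, Finset.sum_add_distrib, hξdef]
      congr 1
      simp
    | some i => rfl
  have h4 : IsAlgebraic (adjoin k (Set.range x)) (ξ + algebraMap K Ω (g j)) := by
    refine alg_mono hrange ((isAlgebraic_kadjoin_iff k _ _).1 ?_)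
    by_contra hh
    exact h2 ((hyk.option_iff_transcendental _).2 hh)
  refine hj ?_
  simpa using h4.sub hξ

/-- Coefficients for Zariski's lemma. -/
theorem exists_coeff {k K Ω : Type u} [Field k] [Field K] [Field Ω] [Algebra k K] [Algebra K Ω] [Algebra k Ω]
    [IsScalarTower k K Ω] {m : ℕ} (x : Fin (m + 2) → Ω) (hx : AlgebraicIndependent K x)
    (g : Fin (m + 2) → K) (hg : AlgebraicIndependent k ![g 0, g 1]) :
    ∃ c : Fin (m + 2) → k, AlgebraicIndependent k (Sum.elim x
      ![∑ i, algebraMap K Ω (g i) * x i, algebraMap K Ω (∑ i, c i • g i)]) := by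
  classical
  set ξ := ∑ i, algebraMap K Ω (g i) * x i with hξdef
  set Fx := adjoin k (Set.range x) with hFx
  have hall : AlgebraicIndependent k (Sum.elim x (algebraMap K Ω ∘ ![g 0, g 1])) := hg.sumElim_comp hx
  have hxk : AlgebraicIndependent k x := hall.comp Sum.inl Sum.inl_injective
  have htr : ∀ (s : Set (Fin (m + 2) ⊕ Fin 2)) (i : Fin (m + 2) ⊕ Fin 2), i ∉ s →
      Transcendental (adjoin k (Sum.elim x (algebraMap K Ω ∘ ![g 0, g 1]) '' s))
        (Sum.elim x (algebraMap K Ω ∘ ![g 0, g 1]) i) :=
    fun s i hi h => hall.transcendental_adjoin hi ((isAlgebraic_kadjoin_iff k _ _).2 h)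
  have hg0 : Transcendental Fx (algebraMap K Ω (g 0)) := by
    have h := htr (Set.range Sum.inl) (Sum.inr 0) (by simp)
    rw [← Set.range_comp, Sum.elim_comp_inl] at h
    exact h
  have hg1 : Transcendental (ext Fx (algebraMap K Ω (g 0))) (algebraMap K Ω (g 1)) := by
    have h := htr (Set.range Sum.inl ∪ {Sum.inr 0}) (Sum.inr 1) (by simp)
    rw [Set.image_union, ← Set.range_comp, Sum.elim_comp_inl, Set.image_singleton] at h
    rw [hFx, ext_adjoin, ← Set.union_singleton]
    exact h
  -- one of `g 0`, `g 1` is transcendental over `k(x, ξ)`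
  have hb : ∃ b : Fin (m + 2), (b = 0 ∨ b = 1) ∧ Transcendental (ext Fx ξ) (algebraMap K Ω (g b)) := by
    by_cases h0 : Transcendental (ext Fx ξ) (algebraMap K Ω (g 0))
    · exact ⟨0, Or.inl rfl, h0⟩
    refine ⟨1, Or.inr rfl, fun h1 => ?_⟩
    -- `ξ` is algebraic over `k(x, g 0)`
    have hξ : IsAlgebraic (ext Fx (algebraMap K Ω (g 0))) ξ := by
      by_contra hh
      exact h0 (exchange hg0 hh)
    refine hg1 ?_
    let M := ext Fx (algebraMap K Ω (g 0))
    haveI : Algebra.IsAlgebraic M (adjoin M ({ξ} : Set Ω)) := isAlgebraic_adjoin_simple hξ.isIntegral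
    have h2 : IsAlgebraic (ext M ξ) (algebraMap K Ω (g 1)) := alg_mono (ext_mono ξ (le_ext Fx _)) h1
    have h3 : IsAlgebraic (adjoin M ({ξ} : Set Ω)) (algebraMap K Ω (g 1)) := h2
    exact h3.restrictScalars M
  obtain ⟨b, -, hb⟩ := hb
  refine ⟨Pi.single b 1, ?_⟩
  have hξ : Transcendental Fx ξ := transcendental_linear x hx g 0 hg0
  have hγ : algebraMap K Ω (∑ i, (Pi.single b (1 : k) : Fin (m + 2) → k) i • g i) = algebraMap K Ω (g b) := by
    congr 1
    rw [Finset.sum_eq_single b (fun i _ hi => by rw [Pi.single_eq_of_ne hi, zero_smul]) (fun h => absurd (Finset.mem_univ b) h),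
      Pi.single_eq_same, one_smul]
  rw [hγ]
  have h1 : AlgebraicIndependent k (fun o : Option (Fin (m + 2)) => o.elim ξ x) :=
    (hxk.option_iff_transcendental ξ).2 fun h => hξ ((isAlgebraic_kadjoin_iff k _ _).1 h)
  have h2 : AlgebraicIndependent k (fun o : Option (Option (Fin (m + 2))) =>
      o.elim (algebraMap K Ω (g b)) fun o => o.elim ξ x) := by
    refine (h1.option_iff_transcendental _).2 fun h => hb ?_
    have h' := (isAlgebraic_kadjoin_iff k _ _).1 h
    refine alg_mono (adjoin_le_iff.2 ?_) h'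
    rintro _ ⟨o, rfl⟩
    cases o with
    | none => exact mem_ext Fx ξ
    | some i => exact le_ext Fx ξ (subset_adjoin k _ ⟨i, rfl⟩)
  let e : Fin (m + 2) ⊕ Fin 2 → Option (Option (Fin (m + 2))) :=
    Sum.elim (fun i => some (some i)) ![some none, none]
  have he : Function.Injective e := by
    rintro (i | i) (j | j) hij
    · simpa [e] using hij
    · exact absurd hij (by fin_cases j <;> simp [e])
    · exact absurd hij (by fin_cases i <;> simp [e])
    · fin_cases i <;> fin_cases j <;> simp [e] at hij ⊢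
  convert h2.comp e he using 1
  funext s
  rcases s with i | i
  · rfl
  · fin_cases i <;> rfl

end Groth.Agent.RelPC13.Bertini
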