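import Groth.Agent.RelPC13.Bertini.Tools
import Mathlib

/-! The core of the irreducibility lemma: `E(t, gt + η)` is separably closed in `L(t)`. -/

set_option autoImplicit false
set_option linter.style.haveILetI false

open IntermediateField

namespace Groth.Agent.RelPC13.Bertini

universe u

variable {k W : Type u} [Field k] [Field W] [Algebra k W]

theorem mem_image_adjoin {M : IntermediateField k W} (φ : M →ₐ[k] W) {S : Set W} (hS : S ⊆ M)
    (T : IntermediateField k W) (h : ∀ (z : W) (hz : z ∈ M), z ∈ S → φ ⟨z, hz⟩ ∈ T)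
    {z : W} (hz : z ∈ adjoin k S) (hzM : z ∈ M) : φ ⟨z, hzM⟩ ∈ T := by
  have h1 : adjoin k S ≤ (T.comap φ).map M.val :=
    adjoin_le_iff.2 fun x hx => ⟨⟨x, hS hx⟩, h x (hS hx) hx, rfl⟩
  obtain ⟨y, hy, hyz⟩ := h1 hz
  obtain rfl : y = ⟨z, hzM⟩ := Subtype.ext hyz
  exact hy

theorem isAlgebraic_image {M : IntermediateField k W} (φ : M →ₐ[k] W) (F G : IntermediateField k W)
    (hF : F ≤ M) (h : ∀ (z : W) (hz : z ∈ F), φ ⟨z, hF hz⟩ ∈ G) {θ : W} (hθM : θ ∈ M)
    (hθ : IsAlgebraic F θ) : IsAlgebraic G (φ ⟨θ, hθM⟩) := by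
  letI : Algebra F M := (inclusion hF).toRingHom.toAlgebra
  haveI : IsScalarTower F M W := IsScalarTower.of_algebraMap_eq fun _ => rfl
  have h1 : IsAlgebraic F (⟨θ, hθM⟩ : M) :=
    (isAlgebraic_algebraMap_iff (R := F) (A := W) (algebraMap M W).injective).1 hθ
  let f : F →+* G :=
    (φ.toRingHom.comp (inclusion hF).toRingHom).codRestrict G.toSubfield.toSubring fun x => h x x.2
  exact h1.ringHom_of_comp_eq f φ.toRingHom f.injective (RingHom.ext fun _ => rfl)

/-- The substitution `t ↦ t'` fixing `L`. -/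
theorem exists_subst {L : IntermediateField k W} {t t' : W} (ht : Transcendental L t)
    (ht' : Transcendental L t') :
    ∃ φ : ext L t →ₐ[k] W, φ ⟨t, mem_ext L t⟩ = t' ∧
      ∀ (z : W) (hz : z ∈ L), φ ⟨z, le_ext L t hz⟩ = z := by
  let e := (RatFunc.algEquivOfTranscendental t ht).symm.trans (RatFunc.algEquivOfTranscendental t' ht')
  let φ₀ : adjoin L ({t} : Set W) →ₐ[L] W := (adjoin L ({t'} : Set W)).val.comp e.toAlgHom
  refine ⟨φ₀.restrictScalars k, ?_, fun z hz => φ₀.commutes ⟨z, hz⟩⟩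
  show ((e (AdjoinSimple.gen L t) : adjoin L ({t'} : Set W)) : W) = t'
  simp [e]

/-- An element separably algebraic over `E₂(t)` in `L(t)` lies in the field generated by `t` and
`L ∩ E₂(t, θ)`. -/
theorem mem_adjoin_constants {E₂ L : IntermediateField k W} (hEL : E₂ ≤ L) {t θ : W}
    (ht : Transcendental L t) (hθ : θ ∈ ext L t) (hsep : IsSeparable (ext E₂ t) θ) :
    θ ∈ adjoin k (((ext (ext E₂ t) θ ⊓ L : IntermediateField k W) : Set W) ∪ {t}) := by
  classical
  let L₁ : IntermediateField k W := ((separableClosure E₂ W).restrictScalars k) ⊓ L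
  have hE₁ : E₂ ≤ L₁ := fun x hx =>
    ⟨(separableClosure E₂ W).algebraMap_mem ⟨x, hx⟩, hEL hx⟩
  have hL₁ : SepIn L₁ L := by
    intro z hz hzs
    refine ⟨?_, hz⟩
    show z ∈ separableClosure E₂ W
    letI : Algebra E₂ L₁ := (inclusion hE₁).toRingHom.toAlgebra
    haveI : IsScalarTower E₂ L₁ W := IsScalarTower.of_algebraMap_eq fun _ => rfl
    haveI : Algebra.IsSeparable E₂ L₁ := ⟨fun x =>
      (isSeparable_map_iff (IsScalarTower.toAlgHom E₂ L₁ W) (algebraMap L₁ W).injective).1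
        (mem_separableClosure_iff.1 x.2.1)⟩
    exact mem_separableClosure_iff.2 (IsSeparable.of_algebra_isSeparable_of_isSeparable E₂ hzs)
  have hθ₁ : θ ∈ ext L₁ t :=
    sepIn_ext inf_le_right ht hL₁ θ hθ (sep_mono (ext_mono t hE₁) hsep)
  -- finitely many generators
  have hθ₂ : θ ∈ adjoin k ((L₁ : Set W) ∪ {t}) := by
    rwa [ext, restrictScalars_adjoin] at hθ₁
  obtain ⟨T, hT, hθT⟩ := exists_finset_of_mem_adjoin hθ₂
  let T' : Finset W := T.filter fun x => x ∈ L₁
  let L₂ : IntermediateField E₂ W := adjoin E₂ (T' : Set W)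
  have hT' : ∀ x ∈ (T' : Set W), x ∈ L₁ := fun x hx => (Finset.mem_filter.1 hx).2
  haveI : FiniteDimensional E₂ L₂ :=
    finiteDimensional_adjoin fun x hx => (mem_separableClosure_iff.1 (hT' x hx).1).isIntegral
  haveI : Algebra.IsSeparable E₂ L₂ := (isSeparable_adjoin_iff_isSeparable E₂ W).mpr fun x hx =>
    mem_separableClosure_iff.1 (hT' x hx).1
  obtain ⟨α, hα⟩ := Field.exists_primitive_element E₂ L₂
  let a : W := α
  have hL₂L : L₂.restrictScalars k ≤ L := by
    rw [restrictScalars_adjoin]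
    exact adjoin_le_iff.2 (Set.union_subset hEL fun x hx => (hT' x hx).2)
  have haL : a ∈ L := hL₂L α.2
  have hL₂a : L₂.restrictScalars k ≤ ext E₂ a := by
    intro x hx
    have h1 : (⟨x, hx⟩ : L₂) ∈ (adjoin E₂ ({α} : Set L₂)) := hα ▸ trivial
    have h2 : (x : W) ∈ (adjoin E₂ ({α} : Set L₂)).map L₂.val := ⟨⟨x, hx⟩, h1, rfl⟩
    rw [adjoin_map, Set.image_singleton] at h2
    exact h2
  have haint : IsIntegral E₂ a := (Algebra.IsIntegral.isIntegral α).map L₂.val
  let N : IntermediateField k W := ext (ext E₂ t) θ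
  have hE₂N : E₂ ≤ N := (le_ext _ t).trans (le_ext _ θ)
  have hNL : N ≤ ext L t := ext_le (ext_mono t hEL) hθ
  let L₃ : IntermediateField k W := N ⊓ L
  let M : IntermediateField k W := adjoin k ((L₃ : Set W) ∪ {t})
  have hMN : M ≤ N := adjoin_le_iff.2 (Set.union_subset (fun x hx => hx.1)
    (Set.singleton_subset_iff.2 (le_ext _ θ (mem_ext _ t))))
  letI : Algebra E₂ N := (inclusion hE₂N).toRingHom.toAlgebra
  haveI : IsScalarTower E₂ N W := IsScalarTower.of_algebraMap_eq fun _ => rfl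
  have haN : IsIntegral N a := haint.tower_top
  -- the minimal polynomial of `a` over `N` has coefficients in `L₃`
  have hcoef : ∀ i, ((minpoly N a).coeff i : W) ∈ L₃ := by
    intro i
    refine ⟨((minpoly N a).coeff i).2, ?_⟩
    have hint : IsIntegral E₂ ((minpoly N a).coeff i) := by
      exact Polynomial.isIntegral_coeff_of_dvd (minpoly E₂ a) (minpoly N a) (minpoly.monic haint)
        (minpoly.monic haN) (minpoly.dvd_map_of_isScalarTower E₂ N a) i
    exact mem_of_isAlgebraic ht (hNL ((minpoly N a).coeff i).2)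
      (alg_mono hEL (hint.map (IsScalarTower.toAlgHom E₂ N W)).isAlgebraic)
  -- `θ` is a polynomial in `a` over `M`
  have hθa : θ ∈ ext M a := by
    refine (adjoin_le_iff.2 ?_) hθT
    intro x hx
    rcases hT hx with h | h
    · refine (ext_mono a ?_) (hL₂a (subset_adjoin E₂ _ (Finset.mem_filter.2 ⟨hx, h⟩)))
      exact fun y hy => subset_adjoin k _ (Or.inl ⟨hE₂N hy, hEL hy⟩)
    · exact le_ext M a (subset_adjoin k _ (Or.inr h))
  have hE₂M : E₂ ≤ M := fun y hy => subset_adjoin k _ (Or.inl ⟨hE₂N hy, hEL hy⟩)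
  letI : Algebra E₂ M := (inclusion hE₂M).toRingHom.toAlgebra
  haveI : IsScalarTower E₂ M W := IsScalarTower.of_algebraMap_eq fun _ => rfl
  have haM : IsIntegral M a := haint.tower_top
  obtain ⟨q, hq⟩ : ∃ q : Polynomial M, Polynomial.aeval a q = θ := by
    have h1 : (adjoin M ({a} : Set W)).toSubalgebra = Algebra.adjoin M {a} :=
      adjoin_simple_toSubalgebra_of_isAlgebraic haM.isAlgebraic
    have h2 : θ ∈ Algebra.adjoin M ({a} : Set W) := h1 ▸ hθa
    rwa [Algebra.adjoin_singleton_eq_range_aeval] at h2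
  -- lift the minimal polynomial to `M`
  let j : M →+* N := (inclusion hMN).toRingHom
  obtain ⟨P, hP, hPm⟩ : ∃ P : Polynomial M, P.map j = minpoly N a ∧ P.Monic := by
    have hl : minpoly N a ∈ Polynomial.lifts j := (Polynomial.lifts_iff_coeff_lifts _).2 fun i =>
      ⟨⟨_, subset_adjoin k _ (Or.inl (hcoef i))⟩, rfl⟩
    obtain ⟨P, hP, -, hm⟩ := Polynomial.lifts_and_degree_eq_and_monic hl (minpoly.monic haN)
    exact ⟨P, hP, hm⟩
  let r := q %ₘ P
  have hjW : (algebraMap N W).comp j = algebraMap M W := rfl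
  have hPa : Polynomial.aeval a P = 0 := by
    rw [Polynomial.aeval_def, ← hjW, ← Polynomial.eval₂_map, hP]
    exact minpoly.aeval N a
  have hr : Polynomial.aeval a r = θ := by
    rw [← hq]
    conv_rhs => rw [← Polynomial.modByMonic_add_div q P]
    rw [map_add, map_mul, hPa, zero_mul, add_zero]
  have hθN : θ ∈ N := mem_ext _ θ
  have hzero : Polynomial.aeval a (r.map j - Polynomial.C (⟨θ, hθN⟩ : N)) = 0 := by
    rw [map_sub, Polynomial.aeval_C, Polynomial.aeval_def, Polynomial.eval₂_map, hjW, ← Polynomial.aeval_def, hr]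
    exact sub_self θ
  have hd : r.map j - Polynomial.C (⟨θ, hθN⟩ : N) = 0 := by
    by_contra hne
    have h1 := minpoly.degree_le_of_ne_zero N a hne hzero
    have h2 : (r.map j).degree < (minpoly N a).degree := by
      rw [← hP, Polynomial.degree_map, Polynomial.degree_map]
      exact Polynomial.degree_modByMonic_lt q hPm
    have h3 : (Polynomial.C (⟨θ, hθN⟩ : N)).degree < (minpoly N a).degree :=
      lt_of_le_of_lt Polynomial.degree_C_le (minpoly.degree_pos haN)
    exact absurd h1 (not_le.2 (lt_of_le_of_lt (Polynomial.degree_sub_le _ _) (max_lt h2 h3)))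
  have h0 := congrArg (fun p : Polynomial N => (p.coeff 0 : W)) hd
  simp only [Polynomial.coeff_sub, Polynomial.coeff_map, Polynomial.coeff_C_zero, Polynomial.coeff_zero] at h0
  have h0' : ((r.coeff 0 : M) : W) - θ = 0 := h0
  have hmem : ((r.coeff 0 : M) : W) ∈ M := (r.coeff 0).2
  rwa [sub_eq_zero.1 h0'] at hmem

set_option maxHeartbeats 1600000 in
/-- `E(t, gt + η)` is separably closed in `L(t)`. -/
theorem sepIn_core {E L : IntermediateField k W} (hEL : E ≤ L) (hE : SepIn E L) {t t' g η : W}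
    (hg : g ∈ L) (hη : η ∈ L) (ht : Transcendental L t) (ht' : Transcendental (ext L t) t')
    (hξ : Transcendental (ext E t) (g * t + η)) (hind : Transcendental (ext (ext E t) (g * t + η)) g) :
    SepIn (ext (ext E t) (g * t + η)) (ext L t) := by
  obtain ⟨ξ, hξdef⟩ : ∃ ξ, ξ = g * t + η := ⟨_, rfl⟩
  rw [← hξdef] at hξ hind ⊢
  obtain ⟨F, hFdef⟩ : ∃ F, F = ext (ext E t) ξ := ⟨_, rfl⟩
  rw [← hFdef] at hind ⊢
  let ξ' := g * t' + η
  intro θ hθ hsep
  have ht'L : Transcendental L t' := transc_anti (le_ext L t) ht'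
  have hξL : ξ ∈ ext L t := hξdef ▸ add_mem (mul_mem (le_ext L t hg) (mem_ext L t)) (le_ext L t hη)
  have hEtF : ext E t ≤ F := hFdef ▸ le_ext _ ξ
  have hξmF : ξ ∈ F := hFdef ▸ mem_ext _ ξ
  have hEt : ext E t ≤ ext L t := ext_mono t hEL
  have hFL : F ≤ ext L t := hFdef ▸ ext_le hEt hξL
  have hne : t' - t ≠ 0 := sub_ne_zero.2 fun h => not_mem_of_transc ht' (h ▸ mem_ext L t)
  -- independence
  have hgF' : Transcendental (ext F t') g :=
    exchange hind (transc_anti (ext_le hFL (le_ext L t hg)) ht')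
  let E' := ext (ext E t) t'
  have hξE' : Transcendental E' ξ := exchange hξ (transc_anti (hFdef ▸ hFL) ht')
  have hξ' : Transcendental (ext E' ξ) ξ' := by
    intro hh
    have hle : ext E' ξ ≤ ext F t' :=
      ext_le (ext_le (hEtF.trans (le_ext F t')) (mem_ext F t')) (le_ext F t' hξmF)
    refine hgF' ?_
    have hξF : ξ ∈ ext F t' := le_ext F t' hξmF
    have htF : t ∈ ext F t' := le_ext F t' (hEtF (mem_ext E t))
    have hd : t' - t ∈ ext F t' := sub_mem (mem_ext F t') htF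
    have heq : g = (t' - t)⁻¹ * (ξ' - ξ) := by
      rw [eq_inv_mul_iff_mul_eq₀ hne]; simp only [ξ', hξdef]; ring
    rw [heq]
    exact (isAlgebraic_of_mem (inv_mem hd)).mul ((alg_mono hle hh).sub (isAlgebraic_of_mem hξF))
  have hξξ' : Transcendental (ext E' ξ') ξ := exchange hξE' hξ'
  -- `θ` lies in the field of constants and `t`
  let E₂ := ext (ext E g) η
  have hE₂L : E₂ ≤ L := ext_le (ext_le hEL hg) hη
  have hFE₂ : F ≤ ext E₂ t := hFdef ▸ ext_le (ext_mono t ((le_ext E g).trans (le_ext _ η)))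
    (hξdef ▸ add_mem (mul_mem (le_ext E₂ t (le_ext _ η (mem_ext E g))) (mem_ext E₂ t))
      (le_ext E₂ t (mem_ext _ η)))
  have hθc := mem_adjoin_constants hE₂L ht hθ (sep_mono hFE₂ hsep)
  obtain ⟨φ, hφt, hφL⟩ := exists_subst ht ht'L
  let θ' : W := φ ⟨θ, hθ⟩
  let B : IntermediateField k W := ext (ext E' ξ') θ'
  have hE'B : E' ≤ B := (le_ext _ ξ').trans (le_ext _ θ')
  -- `θ'` is algebraic over `E'(ξ')`
  have hφF : ∀ (z : W) (hz : z ∈ F), φ ⟨z, hFL hz⟩ ∈ ext E' ξ' := by
    intro z hz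
    have hz' : z ∈ adjoin k ((E : Set W) ∪ {t, ξ}) := by
      have h1 : t ∈ adjoin k ((E : Set W) ∪ {t, ξ}) := subset_adjoin k _ (Or.inr (Or.inl rfl))
      have h2 : ξ ∈ adjoin k ((E : Set W) ∪ {t, ξ}) := subset_adjoin k _ (Or.inr (Or.inr rfl))
      have h3 : E ≤ adjoin k ((E : Set W) ∪ {t, ξ}) := fun y hy => subset_adjoin k _ (Or.inl hy)
      have h4 : F ≤ adjoin k ((E : Set W) ∪ {t, ξ}) := by
        rw [hFdef]
        exact ext_le (F := ext E t) (ext_le (F := E) h3 h1) h2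
      exact h4 hz
    refine mem_image_adjoin φ ?_ _ ?_ hz' (hFL hz)
    · rintro y (hy | rfl | rfl)
      · exact le_ext L t (hEL hy)
      · exact mem_ext L y
      · exact hξL
    · rintro y hy (hy' | rfl | (hy' : y = ξ))
      · rw [hφL y (hEL hy')]
        exact le_ext E' ξ' (le_ext (ext E t) t' (le_ext E t hy'))
      · rw [hφt]
        exact le_ext E' ξ' (mem_ext _ t')
      · have : (⟨y, hy⟩ : ext L t) = ⟨g, le_ext L t hg⟩ * ⟨t, mem_ext L t⟩ + ⟨η, le_ext L t hη⟩ := Subtype.ext (hy'.trans hξdef)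
        rw [this, map_add, map_mul, hφt, hφL g hg, hφL η hη]
        exact mem_ext E' ξ'
  have hθ'alg : IsAlgebraic (ext E' ξ') θ' :=
    isAlgebraic_image φ F (ext E' ξ') hFL hφF hθ hsep.isIntegral.isAlgebraic
  -- `ξ` is transcendental over `B`
  have hξB : Transcendental B ξ := by
    intro hh
    refine hξξ' ?_
    have : Algebra.IsAlgebraic (ext E' ξ') (adjoin (ext E' ξ') ({θ'} : Set W)) :=
      isAlgebraic_adjoin_simple hθ'alg.isIntegral
    have hh' : IsAlgebraic (adjoin (ext E' ξ') ({θ'} : Set W)) ξ := hh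
    exact hh'.restrictScalars (ext E' ξ')
  -- `E'` is separably closed in `B`
  have hE'L : SepIn E' (ext (ext L t) t') := sepIn_ext hEt ht' (sepIn_ext hEL ht hE)
  have hξ'L : ξ' ∈ ext (ext L t) t' :=
    add_mem (mul_mem (le_ext _ t' (le_ext L t hg)) (mem_ext _ t')) (le_ext _ t' (le_ext L t hη))
  have hφW : ∀ z : ext L t, φ z ∈ ext (ext L t) t' := by
    rintro ⟨z, hz⟩
    have h1 : t ∈ adjoin k ((L : Set W) ∪ {t}) := subset_adjoin k _ (Or.inr rfl)
    have h2 : L ≤ adjoin k ((L : Set W) ∪ {t}) := fun y hy => subset_adjoin k _ (Or.inl hy)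
    have hz' : z ∈ adjoin k ((L : Set W) ∪ {t}) := ext_le (F := L) h2 h1 hz
    refine mem_image_adjoin φ ?_ _ ?_ hz' hz
    · rintro y (hy | rfl)
      · exact le_ext L t hy
      · exact mem_ext L y
    · rintro y hy (hy' | rfl)
      · rw [hφL y hy']; exact le_ext _ t' (le_ext L t hy')
      · rw [hφt]; exact mem_ext _ t'
  have hBle : B ≤ ext (ext L t) t' := ext_le (ext_le (ext_mono t' hEt) hξ'L) (hφW _)
  have hE'B' : SepIn E' B := fun z hz hzs => hE'L z (hBle hz) hzs
  -- `θ ∈ B(ξ)`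
  have htB : t ∈ B := hE'B (le_ext _ t' (mem_ext E t))
  have ht'B : t' ∈ B := hE'B (mem_ext _ t')
  have hgB : g ∈ ext B ξ := by
    have heq : g = (t' - t)⁻¹ * (ξ' - ξ) := by
      rw [eq_inv_mul_iff_mul_eq₀ hne]; simp only [ξ', hξdef]; ring
    rw [heq]
    exact mul_mem (inv_mem (le_ext B ξ (sub_mem ht'B htB)))
      (sub_mem (le_ext B ξ (le_ext _ θ' (mem_ext E' ξ'))) (mem_ext B ξ))
  have hηB : η ∈ ext B ξ := by
    have heq : η = ξ - g * t := by simp only [hξdef]; ring
    rw [heq]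
    exact sub_mem (mem_ext B ξ) (mul_mem hgB (le_ext B ξ htB))
  have hθB : θ ∈ ext B ξ := by
    refine (adjoin_le_iff.2 (Set.union_subset ?_ (Set.singleton_subset_iff.2 (le_ext B ξ htB)))) hθc
    intro z hz
    have hz' : z ∈ adjoin k ((E : Set W) ∪ {g, η, t, θ}) := by
      have hm : ∀ y ∈ ({g, η, t, θ} : Set W), y ∈ adjoin k ((E : Set W) ∪ {g, η, t, θ}) :=
        fun y hy => subset_adjoin k _ (Or.inr hy)
      have hE : E ≤ adjoin k ((E : Set W) ∪ {g, η, t, θ}) := fun y hy => subset_adjoin k _ (Or.inl hy)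
      have h4 : ext (ext E₂ t) θ ≤ adjoin k ((E : Set W) ∪ {g, η, t, θ}) :=
        ext_le (F := ext E₂ t) (ext_le (F := E₂) (ext_le (F := ext E g) (ext_le (F := E) hE
          (hm g (by simp))) (hm η (by simp))) (hm t (by simp))) (hm θ (by simp))
      exact h4 hz.1
    have hsub : (E : Set W) ∪ {g, η, t, θ} ⊆ (ext L t : Set W) := by
      rintro y (hy | rfl | rfl | rfl | rfl)
      · exact le_ext L t (hEL hy)
      · exact le_ext L t hg
      · exact le_ext L t hη
      · exact mem_ext L y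
      · exact hθ
    have hzL : φ ⟨z, le_ext L t hz.2⟩ = z := hφL z hz.2
    rw [← hzL]
    refine mem_image_adjoin φ hsub _ ?_ hz' _
    rintro y hy (hy' | rfl | rfl | rfl | rfl)
    · rw [hφL y (hEL hy')]
      exact le_ext B ξ (hE'B (le_ext _ t' (le_ext E t hy')))
    · rw [hφL y hg]; exact hgB
    · rw [hφL y hη]; exact hηB
    · rw [hφt]; exact le_ext B ξ ht'B
    · exact le_ext B ξ (mem_ext _ θ')
  -- conclude
  have hFE' : F ≤ ext E' ξ := hFdef ▸ ext_mono ξ (le_ext _ t')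
  have h1 : θ ∈ ext E' ξ := sepIn_ext hE'B hξB hE'B' θ hθB (sep_mono hFE' hsep)
  have h2 : θ ∈ ext F t' :=
    ext_le (ext_le (hEtF.trans (le_ext F t')) (mem_ext F t')) (le_ext F t' hξmF) h1
  exact mem_of_isAlgebraic (transc_anti hFL ht') h2 hsep.isIntegral.isAlgebraic

end Groth.Agent.RelPC13.Bertini
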