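import Groth.Agent.RelPC13.Bertini.Core
import Groth.Agent.GeomConn5.Irred
import Mathlib

/-! Geometric irreducibility of `K(x)` over `k(x, Σ gᵢ xᵢ)`. -/

set_option autoImplicit false
set_option linter.style.haveILetI false

open IntermediateField AlgebraicGeometry CategoryTheory Limits TensorProduct

namespace Groth.Agent.RelPC13.Bertini

universe u

variable {k Ω W : Type u} [Field k] [Field Ω] [Field W] [Algebra k Ω] [Algebra k W]

theorem alg_map_iff (ι : Ω →ₐ[k] W) (F : IntermediateField k Ω) (z : Ω) :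
    IsAlgebraic (F.map ι) (ι z) ↔ IsAlgebraic F z :=
  isAlgebraic_ringHom_iff_of_comp_eq (F.equivMap ι) ι.toRingHom ι.injective (RingHom.ext fun _ => rfl)

theorem alg_map_iff_not (ι : Ω →ₐ[k] W) {F : IntermediateField k Ω} {z : Ω} :
    Transcendental (F.map ι) (ι z) ↔ Transcendental F z :=
  not_congr (alg_map_iff ι F z)

theorem sep_map_iff (ι : Ω →ₐ[k] W) (F : IntermediateField k Ω) (z : Ω) :
    IsSeparable (F.map ι) (ι z) ↔ IsSeparable F z := by
  let e := F.equivMap ι
  letI : Algebra F W := ((algebraMap (F.map ι) W).comp e.toRingEquiv.toRingHom).toAlgebra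
  let ι' : Ω →ₐ[F] W := { ι.toRingHom with commutes' := fun _ => rfl }
  have h0 : IsSeparable F (ι z) ↔ IsSeparable F z := isSeparable_map_iff ι' ι.injective
  rw [← h0]
  constructor
  · intro h
    letI : Algebra (F.map ι) F := e.symm.toRingEquiv.toRingHom.toAlgebra
    haveI : IsScalarTower (F.map ι) F W := IsScalarTower.of_algebraMap_eq fun y =>
      (congrArg Subtype.val (e.apply_symm_apply y)).symm
    exact IsSeparable.tower_top (L := F) h
  · intro h
    letI : Algebra F (F.map ι) := e.toRingEquiv.toRingHom.toAlgebra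
    haveI : IsScalarTower F (F.map ι) W := IsScalarTower.of_algebraMap_eq fun y => rfl
    exact IsSeparable.tower_top (L := F.map ι) h

theorem map_ext (ι : Ω →ₐ[k] W) (F : IntermediateField k Ω) (a : Ω) :
    (ext F a).map ι = ext (F.map ι) (ι a) := by
  simp only [ext, restrictScalars_adjoin, adjoin_map, Set.image_union, Set.image_singleton]
  rfl

theorem isAlgebraic_kadjoin_iff (K : Type u) [Field K] [Algebra K Ω] (S : Set Ω) (z : Ω) :
    IsAlgebraic (Algebra.adjoin K S) z ↔ IsAlgebraic (adjoin K S) z := by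
  open algebraAdjoinAdjoin in
  exact IsFractionRing.isAlgebraic_iff (Algebra.adjoin K S) (adjoin K S) Ω

theorem sep_of_geometricallyIrreducible {K : Type u} [Field K] [Algebra k K]
    (h : GeometricallyIrreducible (Spec.map (CommRingCat.ofHom (algebraMap k K)))) :
    ∀ α : K, IsSeparable k α → α ∈ Set.range (algebraMap k K) := by
  refine S2150.result.mp fun k' _ _ => ?_
  have h1 := h.geometrically_irreducibleSpace (Spec.map (CommRingCat.ofHom (algebraMap k k'))) _ _
    (IsPullback.of_hasPullback _ _)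
  have h2 : IrreducibleSpace ↥(Spec (CommRingCat.of (K ⊗[k] k'))) :=
    (pullbackSpecIso k K k').hom.homeomorph.irreducibleSpace_iff.1 h1
  exact (PrimeSpectrum.homeomorphOfRingEquiv
    (Algebra.TensorProduct.comm k K k').toRingEquiv).irreducibleSpace_iff.1 h2

/-- Zariski's lemma. -/
theorem geomIrr_linear {K : Type u} [Field K] [Algebra k K] [Algebra K Ω] [IsScalarTower k K Ω]
    (hk : ∀ α : K, IsSeparable k α → α ∈ Set.range (algebraMap k K)) {n : ℕ} (x : Fin n → Ω)
    (hx : AlgebraicIndependent K x) (hgen : IntermediateField.adjoin K (Set.range x) = ⊤)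
    (g : Fin n → K) (c : Fin n → k)
    (hind : AlgebraicIndependent k (Sum.elim x
      ![∑ i, algebraMap K Ω (g i) * x i, algebraMap K Ω (∑ i, c i • g i)])) (θ : Ω)
    (hθ : IsSeparable (IntermediateField.adjoin k (Set.range x ∪ {∑ i, algebraMap K Ω (g i) * x i})) θ) :
    θ ∈ IntermediateField.adjoin k (Set.range x ∪ {∑ i, algebraMap K Ω (g i) * x i}) := by
  classical
  set ξ := ∑ i, algebraMap K Ω (g i) * x i with hξdef
  set F₀ := adjoin k (Set.range x ∪ {ξ}) with hF₀
  have tr : ∀ (s : Set (Fin n ⊕ Fin 2)) (i : Fin n ⊕ Fin 2) (S : Set Ω), i ∉ s →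
      (Sum.elim x ![ξ, algebraMap K Ω (∑ i, c i • g i)]) '' s = S →
      Transcendental (adjoin k S) (Sum.elim x ![ξ, algebraMap K Ω (∑ i, c i • g i)] i) := by
    intro s i S hi hS h
    subst hS
    exact hind.transcendental_adjoin hi ((isAlgebraic_kadjoin_iff k _ _).2 h)
  have hγ : Transcendental F₀ (algebraMap K Ω (∑ i, c i • g i)) := by
    refine tr (Set.range Sum.inl ∪ {Sum.inr 0}) (Sum.inr 1) _ (by simp) ?_
    rw [Set.image_union, ← Set.range_comp, Sum.elim_comp_inl, Set.image_singleton]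
    rfl
  have hξ : Transcendental (adjoin k (Set.range x)) ξ := by
    refine tr (Set.range Sum.inl) (Sum.inr 0) _ (by simp) ?_
    rw [← Set.range_comp, Sum.elim_comp_inl]
  obtain ⟨j, hj⟩ : ∃ j, Transcendental F₀ (algebraMap K Ω (g j)) := by
    by_contra hh
    simp only [Transcendental, not_exists, not_not] at hh
    refine hγ ?_
    rw [map_sum, ← mem_algebraicClosure_iff]
    refine sum_mem fun i _ => ?_
    rw [Algebra.smul_def, map_mul, ← IsScalarTower.algebraMap_apply k K Ω]
    exact mul_mem (mem_algebraicClosure_iff.2 (isAlgebraic_of_mem (F₀.algebraMap_mem (c i))))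
      (mem_algebraicClosure_iff.2 (hh i))
  let t := x j
  let s₀ : Finset (Fin n) := Finset.univ.erase j
  let η : Ω := ∑ i ∈ s₀, algebraMap K Ω (g i) * x i
  have hξη : ξ = algebraMap K Ω (g j) * t + η :=
    (Finset.add_sum_erase Finset.univ (fun i => algebraMap K Ω (g i) * x i) (Finset.mem_univ j)).symm
  let RK : Set Ω := Set.range (algebraMap K Ω)
  -- transcendence over `K` and some of the variables
  have htr : ∀ (s : Finset (Fin n)) (i : Fin n), i ∉ s →
      Transcendental (adjoin k (RK ∪ x '' (s : Set (Fin n)))) (x i) := by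
    intro s i hi h
    refine hx.transcendental_adjoin (s := (s : Set (Fin n))) (i := i) (by simpa using hi)
      ((isAlgebraic_kadjoin_iff K _ _).2 ?_)
    have hle : adjoin k (RK ∪ x '' (s : Set (Fin n))) ≤ (adjoin K (x '' (s : Set (Fin n)))).restrictScalars k := by
      rw [adjoin_le_iff]
      rintro y (⟨a, rfl⟩ | hy)
      · exact (adjoin K (x '' (s : Set (Fin n)))).algebraMap_mem a
      · exact subset_adjoin K _ hy
    exact alg_mono hle h
  have hsep : ∀ s : Finset (Fin n),
      SepIn (adjoin k (x '' (s : Set (Fin n)))) (adjoin k (RK ∪ x '' (s : Set (Fin n)))) := by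
    intro s
    induction s using Finset.induction_on with
    | empty =>
      simp only [Finset.coe_empty, Set.image_empty, Set.union_empty, adjoin_empty]
      intro z hz hzs
      have hle : adjoin k RK ≤ (IsScalarTower.toAlgHom k K Ω).fieldRange :=
        adjoin_le_iff.2 fun y ⟨a, ha⟩ => ⟨a, ha⟩
      obtain ⟨α, rfl⟩ := hle hz
      have h1 : IsSeparable k (IsScalarTower.toAlgHom k K Ω α) :=
        IsSeparable.of_algebra_isSeparable_of_isSeparable k hzs
      obtain ⟨a, ha⟩ := hk α ((isSeparable_map_iff (IsScalarTower.toAlgHom k K Ω)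
        (IsScalarTower.toAlgHom k K Ω).injective).1 h1)
      refine mem_bot.2 ⟨a, ?_⟩
      rw [← ha, IsScalarTower.algebraMap_apply k K Ω]
      rfl
    | insert a s ha ih =>
      rw [Finset.coe_insert, Set.image_insert_eq, Set.union_insert, ← ext_adjoin, ← ext_adjoin]
      exact sepIn_ext (adjoin.mono k _ _ Set.subset_union_right) (htr s a ha) ih
  let E := adjoin k (x '' (s₀ : Set (Fin n)))
  let L := adjoin k (RK ∪ x '' (s₀ : Set (Fin n)))
  have himg : insert t (x '' (s₀ : Set (Fin n))) = Set.range x := by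
    rw [← Set.image_insert_eq, ← Set.image_univ]
    congr 1
    ext i
    simp [s₀, em]
  have hEt : ext E t = adjoin k (Set.range x) := by rw [ext_adjoin, himg]
  have hF : ext (ext E t) ξ = F₀ := by
    rw [hEt, ext_adjoin, hF₀, ← Set.union_singleton]
  have hLt : ext L t = ⊤ := by
    rw [ext_adjoin, ← Set.union_insert, himg, eq_top_iff]
    let M := adjoin k (RK ∪ Set.range x)
    let M' : IntermediateField K Ω :=
      M.toSubfield.toIntermediateField fun a => subset_adjoin k _ (Or.inl ⟨a, rfl⟩)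
    have h1 : adjoin K (Set.range x) ≤ M' :=
      adjoin_le_iff.2 fun z hz => subset_adjoin k (RK ∪ Set.range x) (Or.inr hz)
    intro y _
    exact h1 (hgen ▸ trivial)
  -- pass to `Ω(t')`
  let ι : Ω →ₐ[k] RatFunc Ω := IsScalarTower.toAlgHom k Ω (RatFunc Ω)
  have ht' : Transcendental ((ext L t).map ι) (RatFunc.X : RatFunc Ω) := by
    intro h
    let f : (ext L t).map ι →+* Ω := ((ext L t).val.toRingHom).comp ((ext L t).equivMap ι).symm.toRingEquiv.toRingHom
    have hf : (algebraMap Ω (RatFunc Ω)).comp f = algebraMap ((ext L t).map ι) (RatFunc Ω) :=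
      RingHom.ext fun y => congrArg Subtype.val (((ext L t).equivMap ι).apply_symm_apply y)
    have : IsAlgebraic Ω (RatFunc.X : RatFunc Ω) :=
      h.ringHom_of_comp_eq f (RingHom.id (RatFunc Ω)) f.injective hf
    exact RatFunc.transcendental_X this
  have hL : SepIn (E.map ι) (L.map ι) := by
    rintro z ⟨y, hy, rfl⟩ hz
    exact ⟨y, hsep s₀ y hy ((sep_map_iff ι E y).1 hz), rfl⟩
  have hg : algebraMap K Ω (g j) ∈ L := subset_adjoin k _ (Or.inl ⟨g j, rfl⟩)
  have hη : η ∈ L := sum_mem fun i hi =>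
    mul_mem (subset_adjoin k _ (Or.inl ⟨g i, rfl⟩)) (subset_adjoin k _ (Or.inr ⟨i, hi, rfl⟩))
  have hEL : E ≤ L := adjoin.mono k _ _ Set.subset_union_right
  have ht : Transcendental (L.map ι) (ι t) := fun h =>
    htr s₀ j (Finset.notMem_erase j _) ((alg_map_iff ι L t).1 h)
  have hιξ : ι ξ = ι (algebraMap K Ω (g j)) * ι t + ι η := by rw [hξη, map_add, map_mul]
  have hcore := sepIn_core (g := ι (algebraMap K Ω (g j))) (η := ι η) (IntermediateField.map_mono ι hEL) hL ⟨_, hg, rfl⟩ ⟨_, hη, rfl⟩ ht
    (by rwa [← map_ext]) (by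
      rw [← hιξ, ← map_ext, alg_map_iff_not ι]
      rw [hEt]; exact hξ) (by
      rw [← hιξ, ← map_ext, ← map_ext, alg_map_iff_not ι]
      rw [hF]; exact hj)
  rw [← hιξ, ← map_ext, ← map_ext, ← map_ext, hF, hLt] at hcore
  obtain ⟨y, hy, hyθ⟩ := hcore (ι θ) ⟨θ, trivial, rfl⟩ ((sep_map_iff ι F₀ θ).2 hθ)
  exact ι.injective hyθ ▸ hy

end Groth.Agent.RelPC13.Bertini
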