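import Groth.Agent.S9657
import Groth.Agent.S2150
import Mathlib

/-! Tools on intermediate fields: transcendental elements and separably closed subfields. -/

set_option autoImplicit false
set_option linter.style.haveILetI false

open IntermediateField

namespace Groth.Agent.RelPC13.Bertini

universe u

variable {k W : Type u} [Field k] [Field W] [Algebra k W]

/-- The subfield generated by `F` and `a`. -/
def ext (F : IntermediateField k W) (a : W) : IntermediateField k W := (adjoin F ({a} : Set W)).restrictScalars k

theorem le_ext (F : IntermediateField k W) (a : W) : F ≤ ext F a := fun x hx =>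
  (adjoin F ({a} : Set W)).algebraMap_mem ⟨x, hx⟩

theorem mem_ext (F : IntermediateField k W) (a : W) : a ∈ ext F a := mem_adjoin_simple_self F a

theorem ext_le {F G : IntermediateField k W} {a : W} (h : F ≤ G) (ha : a ∈ G) : ext F a ≤ G := by
  rw [ext, restrictScalars_adjoin]
  exact adjoin_le_iff.2 (Set.union_subset h (Set.singleton_subset_iff.2 ha))

theorem ext_mono {F G : IntermediateField k W} (a : W) (h : F ≤ G) : ext F a ≤ ext G a :=
  ext_le (h.trans (le_ext G a)) (mem_ext G a)

theorem ext_adjoin (S : Set W) (a : W) : ext (adjoin k S) a = adjoin k (insert a S) :=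
  le_antisymm (ext_le (adjoin.mono k _ _ (Set.subset_insert a S)) (subset_adjoin k _ (Set.mem_insert a S)))
    (adjoin_le_iff.2 (Set.insert_subset (mem_ext _ a) ((subset_adjoin k S).trans (le_ext _ a))))

/-- Every element of `B` separable over `E` lies in `E`. -/
def SepIn (E B : IntermediateField k W) : Prop := ∀ z ∈ B, IsSeparable E z → z ∈ E

theorem sep_mono {F G : IntermediateField k W} (h : F ≤ G) {z : W} (hz : IsSeparable F z) :
    IsSeparable G z := by
  letI : Algebra F G := (inclusion h).toRingHom.toAlgebra
  haveI : IsScalarTower F G W := IsScalarTower.of_algebraMap_eq fun _ => rfl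
  exact IsSeparable.tower_top (L := G) hz

theorem alg_mono {F G : IntermediateField k W} (h : F ≤ G) {z : W} (hz : IsAlgebraic F z) :
    IsAlgebraic G z := by
  letI : Algebra F G := (inclusion h).toRingHom.toAlgebra
  haveI : IsScalarTower F G W := IsScalarTower.of_algebraMap_eq fun _ => rfl
  exact hz.extendScalars (inclusion h).injective

theorem transc_anti {F G : IntermediateField k W} (h : F ≤ G) {z : W} (hz : Transcendental G z) :
    Transcendental F z := fun hh => hz (alg_mono h hh)

theorem isAlgebraic_of_mem {F : IntermediateField k W} {z : W} (h : z ∈ F) : IsAlgebraic F z :=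
  isAlgebraic_algebraMap (⟨z, h⟩ : F)

theorem not_mem_of_transc {F : IntermediateField k W} {z : W} (h : Transcendental F z) : z ∉ F :=
  fun hz => h (isAlgebraic_of_mem hz)

/-- `F` is algebraically closed in `F(t)`. -/
theorem mem_of_isAlgebraic {F : IntermediateField k W} {t z : W} (ht : Transcendental F t)
    (hz : z ∈ ext F t) (halg : IsAlgebraic F z) : z ∈ F := by
  let e := RatFunc.algEquivOfTranscendental t ht
  let z' : adjoin F ({t} : Set W) := ⟨z, hz⟩
  have hz' : IsAlgebraic F z' :=
    (isAlgebraic_algebraMap_iff (R := F) (A := W) (algebraMap (adjoin F ({t} : Set W)) W).injective).1 halg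
  by_contra hn
  refine RatFunc.transcendental_of_ne_C (e.symm z') ?_ (hz'.algHom e.symm.toAlgHom)
  rintro ⟨c, hc⟩
  refine hn ?_
  have h1 : z' = algebraMap F _ c := by
    rw [← e.apply_symm_apply z', hc, ← RatFunc.algebraMap_eq_C, AlgEquiv.commutes]
  have h2 : z = (c : W) := congrArg Subtype.val h1
  exact h2 ▸ c.2

theorem isAlgebraic_adjoin_iff (F : IntermediateField k W) (S : Set W) (z : W) :
    IsAlgebraic (Algebra.adjoin F S) z ↔ IsAlgebraic (adjoin F S) z := by
  open algebraAdjoinAdjoin in
  exact IsFractionRing.isAlgebraic_iff (Algebra.adjoin F S) (adjoin F S) W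

/-- Exchange property. -/
theorem exchange {E : IntermediateField k W} {a b : W} (ha : Transcendental E a)
    (hb : Transcendental (ext E a) b) : Transcendental (ext E b) a := by
  have h1 : AlgebraicIndependent E (fun _ : Unit => a) :=
    algebraicIndependent_unique_type_iff.2 ha
  have hb' : Transcendental (Algebra.adjoin E (Set.range fun _ : Unit => a)) b := by
    rw [Set.range_const]
    exact fun h => hb ((isAlgebraic_adjoin_iff E {a} b).1 h)
  have h2 : AlgebraicIndependent E (fun o : Option Unit => o.elim b fun _ => a) :=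
    (h1.option_iff_transcendental b).2 hb'
  have h3 := h2.transcendental_adjoin (s := ({none} : Set (Option Unit))) (i := some ()) (by simp)
  rw [Set.image_singleton] at h3
  exact fun h => h3 ((isAlgebraic_adjoin_iff E {b} a).2 h)

/-- `E` separably closed in `B` implies `E(ξ)` separably closed in `B(ξ)`. -/
theorem sepIn_ext {E B : IntermediateField k W} (hEB : E ≤ B) {ξ : W} (hξ : Transcendental B ξ)
    (h : SepIn E B) : SepIn (ext E ξ) (ext B ξ) := by
  intro z hz hsep
  letI : Algebra E B := (inclusion hEB).toRingHom.toAlgebra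
  haveI : IsScalarTower E B W := IsScalarTower.of_algebraMap_eq fun _ => rfl
  have hξE : Transcendental E ξ := transc_anti hEB hξ
  let eB := RatFunc.algEquivOfTranscendental ξ hξ
  let eE := RatFunc.algEquivOfTranscendental ξ hξE
  let ψB : RatFunc B →+* W := (algebraMap (adjoin B ({ξ} : Set W)) W).comp eB.toRingEquiv.toRingHom
  let ψE : RatFunc E →+* W := (algebraMap (adjoin E ({ξ} : Set W)) W).comp eE.toRingEquiv.toRingHom
  let m : Polynomial E →+* RatFunc B :=
    (algebraMap (Polynomial B) (RatFunc B)).comp (Polynomial.mapRingHom (algebraMap E B))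
  have hm : Function.Injective m := (IsFractionRing.injective (Polynomial B) (RatFunc B)).comp
    (Polynomial.map_injective _ (algebraMap E B).injective)
  letI : Algebra (RatFunc E) (RatFunc B) := (IsFractionRing.lift hm).toAlgebra
  have hcompat : ∀ p : Polynomial E, algebraMap (RatFunc E) (RatFunc B) (algebraMap (Polynomial E) (RatFunc E) p) =
      algebraMap (Polynomial B) (RatFunc B) (p.map (algebraMap E B)) := fun p =>
    IsFractionRing.lift_algebraMap hm p
  have hψ : ψB.comp (algebraMap (RatFunc E) (RatFunc B)) = ψE := by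
    refine IsLocalization.ringHom_ext (nonZeroDivisors (Polynomial E)) (RingHom.ext fun p => ?_)
    show ψB (algebraMap (RatFunc E) (RatFunc B) (algebraMap (Polynomial E) (RatFunc E) p)) =
      ψE (algebraMap (Polynomial E) (RatFunc E) p)
    rw [hcompat]
    show algebraMap (adjoin B ({ξ} : Set W)) W (eB _) = algebraMap (adjoin E ({ξ} : Set W)) W (eE _)
    rw [RatFunc.algEquivOfTranscendental_algebraMap, RatFunc.algEquivOfTranscendental_algebraMap,
      ← Polynomial.aeval_algebraMap_apply, ← Polynomial.aeval_algebraMap_apply, Polynomial.aeval_map_algebraMap]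
    rfl
  let β : RatFunc B := eB.symm ⟨z, hz⟩
  have hβ : ψB β = z := congrArg Subtype.val (eB.apply_symm_apply ⟨z, hz⟩)
  letI : Algebra (RatFunc E) W := ψE.toAlgebra
  let ψ : RatFunc B →ₐ[RatFunc E] W := { ψB with commutes' := fun r => RingHom.congr_fun hψ r }
  have hsep' : IsSeparable (RatFunc E) β := by
    refine IsSeparable.of_algHom (f := ψ) ?_
    show IsSeparable (RatFunc E) (ψB β)
    rw [hβ]
    obtain ⟨p, hp, hpz⟩ : ∃ p : Polynomial (adjoin E ({ξ} : Set W)), p.Separable ∧ Polynomial.aeval z p = 0 :=
      ⟨minpoly (ext E ξ) z, hsep, minpoly.aeval (ext E ξ) z⟩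
    let q : Polynomial (RatFunc E) := p.map eE.symm.toRingEquiv.toRingHom
    refine (Polynomial.Separable.map (f := eE.symm.toRingEquiv.toRingHom) hp).of_dvd (minpoly.dvd _ _ ?_)
    rw [Polynomial.aeval_def, Polynomial.eval₂_map]
    have : (algebraMap (RatFunc E) W).comp eE.symm.toRingEquiv.toRingHom = algebraMap (adjoin E ({ξ} : Set W)) W :=
      RingHom.ext fun y => congrArg Subtype.val (eE.apply_symm_apply y)
    rw [this]
    exact hpz
  have hgeo := (S9657.result (k := E) (K := B) (RatFunc E) (RatFunc B) hcompat).mp
    (S2150.result.mpr fun α hα => ?_)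
  · obtain ⟨c, hc⟩ := S2150.result.mp hgeo β hsep'
    rw [← hβ, ← hc, ← RingHom.comp_apply, hψ]
    exact (eE c).2
  · have h' : IsSeparable E (α : W) := by
      have := (isSeparable_map_iff (IsScalarTower.toAlgHom E B W) (IsScalarTower.toAlgHom E B W).injective).2 hα
      exact this
    exact ⟨⟨α, h α α.2 h'⟩, rfl⟩

end Groth.Agent.RelPC13.Bertini
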